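import Groth.Agent.DimFormula.Ineq
import Groth.Agent.Catenary.Ring
import Groth.Agent.Catenary.Formula
import Mathlib

/-! # The dimension formula from catenarity of subalgebras of `S[T]` -/

set_option autoImplicit false
set_option linter.style.haveILetI false
universe u

open Groth.Agent

namespace Groth.Agent.CatSubDim

/-- **The dimension formula.** -/
theorem exists_formula_step (R : Type u) [CommRing R] [IsDomain R] [IsNoetherianRing R]
    (S : Type u) [CommRing S] [IsDomain S] [Algebra R S] [FaithfulSMul R S] [Algebra.FiniteType R S]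
    {n : ℕ} (φ : MvPolynomial (Fin n) R →ₐ[R] S) (hφ : Function.Surjective φ)
    (p : Ideal R) [p.IsPrime] (q : Ideal S) [q.IsPrime] [q.LiesOver p]
    (hcat : CAlg.IsCatenary (Localization.AtPrime (q.comap φ.toRingHom))) :
    ∃ a b c d : ℕ, q.height = a ∧ Algebra.trdeg (R ⧸ p) (S ⧸ q) = b ∧ p.height = c ∧
      Algebra.trdeg R S = d ∧ a + b = c + d := by
  haveI : IsNoetherianRing S := Algebra.FiniteType.isNoetherianRing R S
  obtain ⟨h₀, d, hh₀, hd, hsum₀⟩ := DimFormula.exists_height_ker φ hφ
  let Q : Ideal (MvPolynomial (Fin n) R) := q.comap φ.toRingHom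
  haveI : Q.LiesOver p := ⟨by
    rw [Ideal.LiesOver.over (p := p) (P := q)]
    ext r
    show _ ↔ φ (algebraMap R _ r) ∈ q
    rw [φ.commutes]
    rfl⟩
  -- the residual prime
  let Rp := R ⧸ p
  let ψ : MvPolynomial (Fin n) Rp →ₐ[Rp] S ⧸ q :=
    MvPolynomial.aeval fun i => Ideal.Quotient.mk q (φ (MvPolynomial.X i))
  let π : MvPolynomial (Fin n) R →+* MvPolynomial (Fin n) Rp := MvPolynomial.map (Ideal.Quotient.mk p)
  have hπψ : ∀ b, ψ (π b) = Ideal.Quotient.mk q (φ b) := fun b => by
    refine RingHom.congr_fun (f := ψ.toRingHom.comp π) (g := (Ideal.Quotient.mk q).comp φ.toRingHom)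
      (MvPolynomial.ringHom_ext (fun r => ?_) fun i => ?_) b
    · show ψ (π (MvPolynomial.C r)) = Ideal.Quotient.mk q (φ (algebraMap R _ r))
      rw [MvPolynomial.map_C, MvPolynomial.aeval_C, φ.commutes]
      rfl
    · show ψ (π (MvPolynomial.X i)) = _
      rw [MvPolynomial.map_X, MvPolynomial.aeval_X]
      rfl
  have hψ : Function.Surjective ψ := fun z => by
    obtain ⟨z, rfl⟩ := Ideal.Quotient.mk_surjective z
    obtain ⟨b, rfl⟩ := hφ z
    exact ⟨π b, hπψ b⟩
  haveI : FaithfulSMul Rp (S ⧸ q) := (faithfulSMul_iff_algebraMap_injective _ _).mpr <| by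
    rw [injective_iff_map_eq_zero]
    intro a ha
    obtain ⟨r, rfl⟩ := Ideal.Quotient.mk_surjective a
    have h1 : algebraMap R S r ∈ q := Ideal.Quotient.eq_zero_iff_mem.mp ha
    rw [Ideal.Quotient.eq_zero_iff_mem, Ideal.LiesOver.over (p := p) (P := q)]
    exact h1
  obtain ⟨h₁, b, hh₁, hb, hsum₁⟩ := DimFormula.exists_height_ker ψ hψ
  -- identify the residual prime
  let I : Ideal (MvPolynomial (Fin n) R) := p.map (algebraMap R (MvPolynomial (Fin n) R))
  have hker : RingHom.ker π = I := by
    rw [MvPolynomial.ker_map, Ideal.mk_ker]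
    rfl
  have hπs : Function.Surjective π := MvPolynomial.map_surjective _ Ideal.Quotient.mk_surjective
  let e : (MvPolynomial (Fin n) R ⧸ I) ≃+* MvPolynomial (Fin n) Rp :=
    (Ideal.quotEquivOfEq hker.symm).trans (RingHom.quotientKerEquivOfSurjective hπs)
  have he : (Q.map (Ideal.Quotient.mk I)).map e = RingHom.ker ψ.toRingHom := by
    rw [show (Q.map (Ideal.Quotient.mk I)).map e = Q.map π from by
      rw [← Ideal.map_coe e, Ideal.map_map]
      congr 1]
    refine le_antisymm (Ideal.map_le_iff_le_comap.mpr fun b hb => ?_) fun z hz => ?_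
    · show ψ (π b) = 0
      rw [hπψ, Ideal.Quotient.eq_zero_iff_mem]
      exact hb
    · obtain ⟨b, rfl⟩ := hπs z
      refine Ideal.mem_map_of_mem _ ?_
      have : ψ (π b) = 0 := hz
      rw [hπψ, Ideal.Quotient.eq_zero_iff_mem] at this
      exact this
  have h1 : Q.height = p.height + (h₁ : ℕ∞) := by
    rw [← hh₁, ← he, e.height_map]
    exact Ideal.height_eq_height_add_of_liesOver_of_hasGoingDown p Q
  -- going up from the kernel
  haveI : (RingHom.ker φ.toRingHom).IsPrime := RingHom.ker_isPrime _
  have h2 : q.height + (h₀ : ℕ∞) = Q.height := by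
    rw [← hh₀, ← Catenary.height_quotient_add_atPrime (RingHom.ker φ.toRingHom) Q (Ideal.comap_mono bot_le) hcat]
    congr 1
    let E := RingHom.quotientKerEquivOfSurjective (f := φ.toRingHom) hφ
    rw [← E.height_map, ← Ideal.map_coe E, Ideal.map_map]
    exact congrArg Ideal.height (Ideal.map_comap_of_surjective φ.toRingHom hφ q).symm
  obtain ⟨c, hc⟩ := ENat.ne_top_iff_exists.mp (p.height_ne_top_of_isPrime)
  obtain ⟨a, ha⟩ := ENat.ne_top_iff_exists.mp (q.height_ne_top_of_isPrime)
  refine ⟨a, b, c, d, ha.symm, hb, hc.symm, hd, ?_⟩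
  rw [← ha] at h2
  rw [← hc] at h1
  have h3 : a + h₀ = c + h₁ := by exact_mod_cast h2.trans h1
  omega


/-- The dimension formula for one prime. -/
def Formula (R S : Type u) [CommRing R] [CommRing S] [Algebra R S] (q : Ideal S) : Prop :=
  ∃ a b c d : ℕ, q.height = a ∧ Algebra.trdeg (R ⧸ q.under R) (S ⧸ q) = b ∧ (q.under R).height = c ∧
    Algebra.trdeg R S = d ∧ a + b = c + d

theorem formula_trans (A B C : Type u) [CommRing A] [CommRing B] [CommRing C] [IsDomain A] [IsDomain B] [IsDomain C]
    [Algebra A B] [Algebra A C] [Algebra B C] [IsScalarTower A B C] [FaithfulSMul A B] [FaithfulSMul B C]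
    (q : Ideal C) [q.IsPrime] (h₁ : Formula A B (q.under B)) (h₂ : Formula B C q) : Formula A C q := by
  obtain ⟨a₁, b₁, c₁, d₁, ha₁, hb₁, hc₁, hd₁, h₁⟩ := h₁
  obtain ⟨a, b, c, d, ha, hb, hc, hd, h⟩ := h₂
  obtain rfl : c = a₁ := by exact_mod_cast hc.symm.trans ha₁
  have hu : (q.under B).under A = q.under A := Ideal.under_under q
  have hd' : Algebra.trdeg A C = (d₁ + d : ℕ) := by rw [Nat.cast_add, ← hd₁, ← hd, trdeg_add_eq A B (A := C)]
  haveI : (q.under B).LiesOver (q.under A) := ⟨hu.symm⟩
  have hb₁' : Algebra.trdeg (A ⧸ q.under A) (B ⧸ q.under B) = b₁ := by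
    rw [← hb₁]
    let e : (A ⧸ q.under A) ≃+* (A ⧸ (q.under B).under A) := Ideal.quotEquivOfEq hu.symm
    letI : Algebra (A ⧸ q.under A) (A ⧸ (q.under B).under A) := e.toRingHom.toAlgebra
    haveI : IsScalarTower (A ⧸ q.under A) (A ⧸ (q.under B).under A) (B ⧸ q.under B) := .of_algebraMap_eq fun x => by
      obtain ⟨x, rfl⟩ := Ideal.Quotient.mk_surjective x
      rfl
    haveI : Algebra.IsAlgebraic (A ⧸ q.under A) (A ⧸ (q.under B).under A) := by
      haveI : Module.Finite (A ⧸ q.under A) (A ⧸ (q.under B).under A) := Module.Finite.of_surjective (Algebra.linearMap (A ⧸ q.under A) (A ⧸ (q.under B).under A)) e.surjective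
      exact Algebra.IsAlgebraic.of_finite _ _
    haveI : FaithfulSMul (A ⧸ q.under A) (A ⧸ (q.under B).under A) := (faithfulSMul_iff_algebraMap_injective _ _).mpr e.injective
    haveI : FaithfulSMul (A ⧸ (q.under B).under A) (B ⧸ q.under B) :=
      (faithfulSMul_iff_algebraMap_injective _ _).mpr (Unibranch.algebraMap_injective_quotient_under _)
    rw [← trdeg_add_eq (A ⧸ q.under A) (A ⧸ (q.under B).under A) (A := B ⧸ q.under B), trdeg_eq_zero, zero_add]
  haveI : IsScalarTower (A ⧸ q.under A) (B ⧸ q.under B) (C ⧸ q) := .of_algebraMap_eq fun x => by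
    obtain ⟨x, rfl⟩ := Ideal.Quotient.mk_surjective x
    show Ideal.Quotient.mk q (algebraMap A C x) = Ideal.Quotient.mk q (algebraMap B C (algebraMap A B x))
    rw [← IsScalarTower.algebraMap_apply]
  haveI : FaithfulSMul (A ⧸ q.under A) (B ⧸ q.under B) := (faithfulSMul_iff_algebraMap_injective _ _).mpr <| by
    rw [injective_iff_map_eq_zero]
    intro x hx
    obtain ⟨x, rfl⟩ := Ideal.Quotient.mk_surjective x
    have h2 : algebraMap A B x ∈ q.under B := Ideal.Quotient.eq_zero_iff_mem.1 hx
    rw [Ideal.Quotient.eq_zero_iff_mem, ← hu]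
    exact h2
  haveI : FaithfulSMul (B ⧸ q.under B) (C ⧸ q) :=
    (faithfulSMul_iff_algebraMap_injective _ _).mpr (Unibranch.algebraMap_injective_quotient_under q)
  refine ⟨a, b₁ + b, c₁, d₁ + d, ha, ?_, hu ▸ hc₁, hd', by omega⟩
  rw [Nat.cast_add, ← hb₁', ← hb, trdeg_add_eq (A ⧸ q.under A) (B ⧸ q.under B) (A := C ⧸ q)]

theorem formula_self (R S : Type u) [CommRing R] [CommRing S] [IsDomain R] [IsDomain S] [Algebra R S] [IsNoetherianRing R]
    (hb : Function.Bijective (algebraMap R S)) (q : Ideal S) [q.IsPrime] : Formula R S q := by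
  let e : R ≃+* S := RingEquiv.ofBijective _ hb
  obtain ⟨c, hc⟩ := ENat.ne_top_iff_exists.mp ((q.under R).height_ne_top_of_isPrime)
  haveI : Module.Finite R S := Module.Finite.of_surjective (Algebra.linearMap R S) hb.2
  haveI : FaithfulSMul R S := (faithfulSMul_iff_algebraMap_injective _ _).mpr hb.1
  haveI : Algebra.IsAlgebraic R S := Algebra.IsAlgebraic.of_finite R S
  haveI : Module.Finite (R ⧸ q.under R) (S ⧸ q) := Module.Finite.of_surjective (Algebra.linearMap (R ⧸ q.under R) (S ⧸ q)) fun z => by
    obtain ⟨z, rfl⟩ := Ideal.Quotient.mk_surjective z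
    obtain ⟨x, rfl⟩ := hb.2 z
    exact ⟨Ideal.Quotient.mk _ x, rfl⟩
  haveI : Algebra.IsAlgebraic (R ⧸ q.under R) (S ⧸ q) := Algebra.IsAlgebraic.of_finite _ _
  refine ⟨c, 0, c, 0, ?_, by simpa using trdeg_eq_zero, hc.symm, by simpa using trdeg_eq_zero, rfl⟩
  rw [hc]
  exact (e.height_comap q).symm

theorem main {R S : Type u} [CommRing R] [IsDomain R] [IsNoetherianRing R] [IsLocalRing R] [CommRing S] [IsDomain S]
    [Algebra R S] [FaithfulSMul R S] [Algebra.FiniteType R S] (q : Ideal S) [q.IsPrime]
    [q.LiesOver (IsLocalRing.maximalIdeal R)]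
    (hcat : ∀ A' : Subalgebra R (Polynomial S), A'.FG →
      ∀ (m' : Ideal A') [m'.IsMaximal], m'.LiesOver (IsLocalRing.maximalIdeal R) →
        CAlg.IsCatenary (Localization.AtPrime m')) :
    Formula R S q := by
  classical
  obtain ⟨G, hG⟩ := (inferInstance : Algebra.FiniteType R S).out
  suffices h : ∀ s : Finset S, Formula R (Algebra.adjoin R (s : Set S))
      (q.comap (Algebra.adjoin R (s : Set S)).val.toRingHom) by
    let T := Algebra.adjoin R (G : Set S)
    have hT : Function.Bijective (algebraMap T S) := ⟨Subtype.val_injective, fun z => ⟨⟨z, show z ∈ T from (hG ▸ Algebra.mem_top : z ∈ Algebra.adjoin R (G : Set S))⟩, rfl⟩⟩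
    haveI : FaithfulSMul T S := (faithfulSMul_iff_algebraMap_injective _ _).mpr hT.1
    haveI : FaithfulSMul R T := (faithfulSMul_iff_algebraMap_injective _ _).mpr fun x y hxy =>
      FaithfulSMul.algebraMap_injective R S (congrArg Subtype.val hxy)
    haveI : Algebra.FiniteType R T := (Subalgebra.fg_iff_finiteType _).1 (Subalgebra.fg_adjoin_finset G)
    haveI : IsNoetherianRing T := Algebra.FiniteType.isNoetherianRing R T
    exact formula_trans R T S q (h G) (formula_self T S hT q)
  intro s
  induction s using Finset.induction_on with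
  | empty =>
    refine formula_self R _ ⟨fun x y hxy => FaithfulSMul.algebraMap_injective R S (congrArg Subtype.val hxy),
      fun z => ?_⟩ _
    obtain ⟨r, hr⟩ : (z : S) ∈ (⊥ : Subalgebra R S) := by simpa using z.2
    exact ⟨r, Subtype.ext hr⟩
  | @insert x s hx ih =>
    let T := Algebra.adjoin R (s : Set S)
    let U := Algebra.adjoin R ((insert x s : Finset S) : Set S)
    have hle : T ≤ U := Algebra.adjoin_mono (by simp)
    letI : Algebra T U := (Subalgebra.inclusion hle).toRingHom.toAlgebra
    haveI : IsScalarTower R T U := .of_algebraMap_eq fun _ => rfl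
    haveI : FaithfulSMul R T := (faithfulSMul_iff_algebraMap_injective _ _).mpr fun a b hab =>
      FaithfulSMul.algebraMap_injective R S (congrArg Subtype.val hab)
    haveI : FaithfulSMul T U := (faithfulSMul_iff_algebraMap_injective _ _).mpr (Subalgebra.inclusion_injective hle)
    haveI : Algebra.FiniteType R T := (Subalgebra.fg_iff_finiteType _).1 (Subalgebra.fg_adjoin_finset s)
    haveI : Algebra.FiniteType R U := (Subalgebra.fg_iff_finiteType _).1 (Subalgebra.fg_adjoin_finset _)
    haveI : Algebra.FiniteType T U := Algebra.FiniteType.of_restrictScalars_finiteType R T U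
    haveI : IsNoetherianRing T := Algebra.FiniteType.isNoetherianRing R T
    have hxU : x ∈ U := Algebra.subset_adjoin (by simp)
    let φ : MvPolynomial (Fin 1) T →ₐ[T] U := MvPolynomial.aeval fun _ => (⟨x, hxU⟩ : U)
    have hφ : Function.Surjective φ := by
      have hsub : U ≤ ((U.val.comp (φ.restrictScalars R)).range) := by
        refine Algebra.adjoin_le fun z hz => ?_
        rw [Finset.coe_insert, Set.mem_insert_iff] at hz
        rcases hz with rfl | hz
        · exact ⟨MvPolynomial.X 0, congrArg Subtype.val (MvPolynomial.aeval_X (fun _ => (⟨z, hxU⟩ : U)) (0 : Fin 1))⟩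
        · exact ⟨MvPolynomial.C ⟨z, Algebra.subset_adjoin hz⟩, congrArg Subtype.val (MvPolynomial.aeval_C (fun _ => (⟨x, hxU⟩ : U)) (⟨z, Algebra.subset_adjoin hz⟩ : T))⟩
      intro z
      obtain ⟨w, hw⟩ := hsub z.2
      exact ⟨w, Subtype.ext hw⟩
    let qU := q.comap U.val.toRingHom
    have hqT : qU.under T = q.comap T.val.toRingHom := rfl
    haveI : (qU.under T).IsPrime := inferInstance
    refine formula_trans R T U qU ih ?_
    suffices hcatQ : CAlg.IsCatenary (Localization.AtPrime (qU.comap φ.toRingHom)) from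
      exists_formula_step T U φ hφ (qU.under T) qU hcatQ
    -- catenarity comes from a subalgebra of `S[T]`
    let j : MvPolynomial (Fin 1) T →ₐ[R] Polynomial S :=
      ((Polynomial.mapAlgHom T.val).comp ((MvPolynomial.uniqueAlgEquiv T (Fin 1)).toAlgHom.restrictScalars R))
    have hj : Function.Injective j :=
      (Polynomial.map_injective _ Subtype.val_injective).comp (MvPolynomial.uniqueAlgEquiv T (Fin 1)).injective
    let e : MvPolynomial (Fin 1) T ≃ₐ[R] j.range := AlgEquiv.ofInjective j hj
    haveI : Algebra.FiniteType R (MvPolynomial (Fin 1) T) := Algebra.FiniteType.trans (S := T) inferInstance inferInstance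
    have hfg : j.range.FG := by
      rw [Subalgebra.fg_iff_finiteType]
      exact Algebra.FiniteType.of_surjective e.toAlgHom e.surjective
    let Q := qU.comap φ.toRingHom
    haveI : Q.IsPrime := Ideal.IsPrime.comap _
    let Q' : Ideal j.range := Q.comap e.symm.toAlgHom.toRingHom
    obtain ⟨m', hm', hQm'⟩ := Ideal.exists_le_maximal Q' (Ideal.IsPrime.comap _).ne_top
    haveI := hm'
    have hQR : Q'.under R = IsLocalRing.maximalIdeal R := by
      rw [Ideal.LiesOver.over (p := IsLocalRing.maximalIdeal R) (P := q)]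
      ext r
      show φ (e.symm (algebraMap R j.range r)) ∈ qU ↔ algebraMap R S r ∈ q
      rw [e.symm.commutes, IsScalarTower.algebraMap_apply R T (MvPolynomial (Fin 1) T), φ.commutes,
        ← IsScalarTower.algebraMap_apply]
      rfl
    have hm'over : m'.LiesOver (IsLocalRing.maximalIdeal R) := ⟨(IsLocalRing.maximalIdeal.isMaximal R).eq_of_le
      (Ideal.IsPrime.ne_top inferInstance) (hQR ▸ Ideal.comap_mono hQm')⟩
    have hc' := hcat j.range hfg m' hm'over
    let e' : MvPolynomial (Fin 1) T ≃+* j.range := e.toRingEquiv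
    let M := m'.comap e'.toRingHom
    haveI : M.IsPrime := Ideal.IsPrime.comap _
    have hQM : Q ≤ M := fun z hz => hQm' (show e.symm (e z) ∈ Q by rwa [AlgEquiv.symm_apply_apply])
    have hcM : CAlg.IsCatenary (Localization.AtPrime M) := by
      refine Catenary.isCatenary_of_ringEquiv (IsLocalization.ringEquivOfRingEquiv (M := m'.primeCompl) (T := M.primeCompl) (Localization.AtPrime m') (Localization.AtPrime M) e'.symm ?_) hc'
      ext z
      simp only [Submonoid.mem_map, Ideal.mem_primeCompl_iff]
      exact ⟨fun ⟨w, hw, h⟩ => fun hz => hw (by subst h; exact (e'.apply_symm_apply w) ▸ (show e' (e'.symm w) ∈ m' from hz)), fun hz => ⟨e' z, hz, e'.symm_apply_apply z⟩⟩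
    letI := IsLocalization.localizationAlgebraOfSubmonoidLe (Localization.AtPrime M) (Localization.AtPrime Q) M.primeCompl Q.primeCompl
      fun z hz h => hz (hQM h)
    haveI : IsScalarTower (MvPolynomial (Fin 1) T) (Localization.AtPrime M) (Localization.AtPrime Q) :=
      IsLocalization.localization_isScalarTower_of_submonoid_le _ _ M.primeCompl Q.primeCompl fun z hz h => hz (hQM h)
    have hloc := IsLocalization.isLocalization_of_submonoid_le (Localization.AtPrime M) (Localization.AtPrime Q) M.primeCompl Q.primeCompl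
      fun z hz h => hz (hQM h)
    exact @Catenary.isCatenary_of_isLocalization (Localization.AtPrime M) _ _ (Localization.AtPrime Q) _ _ hloc hcM

end Groth.Agent.CatSubDim
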